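import Mathlib
import Groth.Agent.GalCohLib.CardKills
set_option autoImplicit false
open CategoryTheory Limits

namespace Groth.Agent.HenselUnits
universe u
open ShortComplex in
lemma exact_elem {k G : Type u} [CommRing k] [Group G] {S : ShortComplex (Rep k G)} (hS : S.Exact) (b : S.X₂) (hb : S.g.hom b = 0) :
    ∃ a : S.X₁, S.f.hom a = b :=
  (ShortComplex.moduleCat_exact_iff _).mp (hS.map (forget₂ (Rep k G) (ModuleCat k))) b hb
open groupCohomology
attribute [local instance] Units.mulDistribMulActionRight

lemma pow_bij_aux {R : Type} [CommRing R] [HenselianLocalRing R] (N : ℕ) (hN : IsUnit (N : R)) :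
    (∀ x : Rˣ, IsLocalRing.residue R (x:R) = 1 → x ^ N = 1 → x = 1) ∧
    (∀ u : Rˣ, IsLocalRing.residue R (u:R) = 1 → ∃ x : Rˣ, IsLocalRing.residue R (x:R) = 1 ∧ x ^ N = u) := by
  have hN0 : N ≠ 0 := by rintro rfl; simp at hN
  constructor
  · intro x hx hxN
    have h : (∑ i ∈ Finset.range N, (x:R) ^ i) * ((x:R) - 1) = 0 := by
      rw [geom_sum_mul, ← Units.val_pow_eq_pow_val, hxN]; simp
    have hu : IsUnit (∑ i ∈ Finset.range N, (x:R) ^ i) := by
      have := map_sum (IsLocalRing.residue R) (fun i => (x:R) ^ i) (Finset.range N)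
      refine (IsLocalRing.residue_ne_zero_iff_isUnit _).mp ?_
      rw [this]; simp only [map_pow, hx, one_pow, Finset.sum_const, Finset.card_range, nsmul_eq_mul, mul_one]
      rw [← map_natCast (IsLocalRing.residue R)]
      exact (IsLocalRing.residue_ne_zero_iff_isUnit _).mpr hN
    exact Units.ext (sub_eq_zero.mp (hu.mul_right_eq_zero.mp h))
  · intro u hu
    obtain ⟨a, ha, ha1⟩ := HenselianLocalRing.is_henselian (Polynomial.X ^ N - Polynomial.C (u:R))
      (Polynomial.monic_X_pow_sub_C _ hN0) 1 (by
        rw [← IsLocalRing.residue_eq_zero_iff]; simp [hu]) (by simpa [Polynomial.derivative_X_pow] using hN)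
    have har : IsLocalRing.residue R a = 1 := by
      rw [← sub_eq_zero, ← map_one (IsLocalRing.residue R), ← map_sub, IsLocalRing.residue_eq_zero_iff]
      exact ha1
    have hau : IsUnit a := (IsLocalRing.residue_ne_zero_iff_isUnit _).mp (by simp [har])
    refine ⟨hau.unit, har, Units.ext ?_⟩
    simpa [Polynomial.IsRoot, sub_eq_zero] using ha

theorem main (R : Type) [CommRing R]
    [HenselianLocalRing R] (p : ℕ) [CharP (IsLocalRing.ResidueField R) p]
    (G : Type) [Group G] [Finite G] [MulSemiringAction G R] (hp : ¬ p ∣ Nat.card G)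
    (φ : Rep.ofMulDistribMulAction G Rˣ ⟶ Rep.ofMulDistribMulAction G (IsLocalRing.ResidueField R)ˣ)
    (hφ : ∀ x : Rˣ, Additive.toMul (φ.hom (Additive.ofMul x)) = Units.map (IsLocalRing.residue R).toMonoidHom x)
    (n : ℕ) (hn : 1 ≤ n) :
    Function.Bijective ((groupCohomology.functor ℤ G n).map φ).hom := by
  have hN : IsUnit (Nat.card G : R) := by
    refine (IsLocalRing.residue_ne_zero_iff_isUnit _).mp ?_
    rw [map_natCast]
    exact fun h => hp ((CharP.cast_eq_zero_iff _ p _).mp h)
  obtain ⟨hinj, hsur⟩ := pow_bij_aux (Nat.card G) hN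
  haveI : Epi φ := by
    rw [Rep.epi_iff_surjective]
    intro y
    obtain ⟨x, hx⟩ := IsLocalRing.surjective_units_map_of_local_ringHom (IsLocalRing.residue R) IsLocalRing.residue_surjective inferInstance (Additive.toMul y)
    exact ⟨Additive.ofMul x, Additive.toMul.injective ((hφ x).trans hx)⟩
  let S : ShortComplex (Rep ℤ G) := ShortComplex.mk (kernel.ι φ) φ (kernel.condition φ)
  have hS : S.ShortExact := { exact := ShortComplex.exact_of_f_is_kernel _ (kernelIsKernel φ) }
  have hι : Function.Injective (kernel.ι φ).hom := (Rep.mono_iff_injective _).mp inferInstance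
  have hex := exact_elem hS.exact
  have hker : ∀ b : Rep.ofMulDistribMulAction G Rˣ, φ.hom b = 0 ↔ IsLocalRing.residue R ((Additive.toMul b : Rˣ) : R) = 1 := by
    intro b
    have this : Additive.toMul (φ.hom b) = Units.map (IsLocalRing.residue R).toMonoidHom (Additive.toMul b) := hφ (Additive.toMul b)
    constructor
    · intro h
      rw [h] at this
      exact (congrArg Units.val this).symm
    · intro h
      exact Additive.toMul.injective (this.trans (Units.ext h))
  have hdiv : Function.Bijective fun a : (kernel φ : Rep ℤ G) => Nat.card G • a := by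
    constructor
    · intro a b hab
      have h0 : (kernel.ι φ).hom (Nat.card G • (a - b)) = 0 := by
        simp only at hab; rw [smul_sub, hab, sub_self, map_zero]
      rw [map_nsmul] at h0
      have hk : φ.hom ((kernel.ι φ).hom (a - b)) = 0 := by
        have := congrArg (fun f => f.hom (a - b)) (kernel.condition φ)
        simpa using this
      have := hinj _ ((hker _).mp hk) (congrArg Additive.toMul h0)
      have h1 : (kernel.ι φ).hom (a - b) = 0 := Additive.toMul.injective this
      exact sub_eq_zero.mp (hι (h1.trans (map_zero _).symm))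
    · intro a
      have hk : φ.hom ((kernel.ι φ).hom a) = 0 := by
        have := congrArg (fun f => f.hom a) (kernel.condition φ)
        simpa using this
      obtain ⟨x, hx1, hx2⟩ := hsur _ ((hker _).mp hk)
      obtain ⟨b, hb⟩ := hex (Additive.ofMul x) ((hker _).mpr hx1)
      refine ⟨b, hι ?_⟩
      rw [map_nsmul]
      have hb' : (kernel.ι φ).hom b = Additive.ofMul x := hb
      rw [hb']
      exact Additive.toMul.injective hx2
  have hz : ∀ i, 0 < i → IsZero (groupCohomology (kernel φ) i) := fun i hi =>
    @ModuleCat.isZero_of_subsingleton _ _ _ (Groth.Agent.GalCohLib.subsingleton_of_bijective _ hdiv i hi)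
  constructor
  · have : Mono ((groupCohomology.functor ℤ G n).map φ) :=
      (mapShortComplex₂_exact hS n).mono_g ((hz n hn).eq_of_src _ _)
    exact (ModuleCat.mono_iff_injective _).mp this
  · have : Epi ((groupCohomology.functor ℤ G n).map φ) :=
      (mapShortComplex₃_exact hS (rfl : n + 1 = n + 1)).epi_f ((hz (n+1) (by omega)).eq_of_tgt _ _)
    exact (ModuleCat.epi_iff_surjective _).mp this
end Groth.Agent.HenselUnits
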